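import Groth.Agent.Lib.GrpQuot20.OverQuot
import Mathlib.CategoryTheory.EffectiveEpi.Basic

/-!
# fpqc covering morphisms in `Over S`: descent of morphisms; quotient groups
-/

set_option autoImplicit false

universe u

open CategoryTheory CategoryTheory.Limits MonoidalCategory CartesianMonoidalCategory MonObj AlgebraicGeometry

namespace Groth.Agent.GrpQuot20

theorem QCov.comp {A B C : Scheme.{u}} {f : A ⟶ B} {g : B ⟶ C} (hf : QCov f) (hg : QCov g) : QCov (f ≫ g) := by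
  intro V hV
  obtain ⟨W, hW, hWV⟩ := hg V hV
  obtain ⟨s, hs, he⟩ := isCompact_and_isOpen_iff_finite_and_eq_biUnion_affineOpens.1 ⟨hW, W.2⟩
  choose W' hW' hWU using fun i : B.affineOpens => hf i.1 i.2
  refine ⟨⨆ i ∈ s, W' i, ?_, ?_⟩
  · simp only [TopologicalSpace.Opens.coe_iSup]
    exact hs.isCompact_biUnion fun i _ => hW' i
  · simp only [TopologicalSpace.Opens.coe_iSup, Scheme.Hom.comp_base, TopCat.coe_comp, Set.image_comp,
      Set.image_iUnion₂, hWU]
    rw [← hWV, he, Set.image_iUnion₂]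

theorem effectiveEpi_of_qcov {Z Y : Scheme.{u}} (q : Z ⟶ Y) [Flat q] [Surjective q] (hq : QCov q) :
    EffectiveEpi q := by
  rw [← Sieve.effectiveEpimorphic_singleton, Presieve.EffectiveEpimorphic.iff_forall_isSheafFor_yoneda]
  intro W
  haveI : QuasiCompactCover.{u, u} (PreZeroHypercover.singleton.{u} q) := by
    refine ⟨fun {U} hU => ?_⟩
    obtain ⟨W, hW, hWU⟩ := hq U hU
    refine .of_finite (κ := PUnit.{1}) (fun _ => PUnit.unit) (fun _ => W) (fun _ => hW) ?_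
    rw [Set.iUnion_const]
    exact hWU
  have hmem : Presieve.singleton q ∈ Scheme.fpqcPrecoverage Y := by
    refine ⟨?_, (Scheme.singleton_mem_precoverage_iff _ q).2 ⟨q.surjective, ‹_›⟩⟩
    rw [← PreZeroHypercover.presieve₀_singleton, Scheme.presieve₀_mem_qcPrecoverage_iff]
    infer_instance
  exact (GrothendieckTopology.Subcanonical.isSheaf_of_isRepresentable _).isSheafFor _
    (Precoverage.generate_mem_toGrothendieck hmem)

theorem QCov.of_isPullback {P A Z B : Scheme.{u}} {c : P ⟶ A} {s : P ⟶ Z} {t : A ⟶ B} {q : Z ⟶ B}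
    (hb : IsPullback c s t q) (hq : QCov q) : QCov c := by
  intro V hV
  obtain ⟨W, hW, hWV⟩ := hq.pullback_fst t V hV
  exact qcov_iso hb V W hW hWV

/-- A morphism of schemes is covering for the fpqc topology. -/
def CovFac {A B : Scheme.{u}} (f : A ⟶ B) : Prop :=
  ∃ (Z : Scheme.{u}) (q : Z ⟶ B) (r : Z ⟶ A), r ≫ f = q ∧ Surjective q ∧ Flat q ∧ QCov q

theorem CovFac.of_isPullback {P A Z B : Scheme.{u}} {c : P ⟶ A} {s : P ⟶ Z} {t : A ⟶ B} {f : Z ⟶ B}
    (hb : IsPullback c s t f) (hf : CovFac f) : CovFac c := by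
  obtain ⟨W, q, r, hr, hqs, hqf, hq⟩ := hf
  refine ⟨Limits.pullback t q, Limits.pullback.fst t q,
    hb.lift (Limits.pullback.fst t q) (Limits.pullback.snd t q ≫ r)
      (by rw [Category.assoc, hr]; exact Limits.pullback.condition), hb.lift_fst _ _ _,
    MorphismProperty.pullback_fst _ _ hqs, MorphismProperty.pullback_fst _ _ hqf, hq.pullback_fst t⟩

theorem CovFac.comp {A B C : Scheme.{u}} {f : A ⟶ B} {g : B ⟶ C} (hf : CovFac f) (hg : CovFac g) :
    CovFac (f ≫ g) := by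
  obtain ⟨Z₁, q₁, r₁, hr₁, hs₁, hf₁, hq₁⟩ := hf
  obtain ⟨Z₂, q₂, r₂, hr₂, hs₂, hf₂, hq₂⟩ := hg
  haveI : Surjective (Limits.pullback.fst r₂ q₁) := MorphismProperty.pullback_fst _ _ hs₁
  haveI : Flat (Limits.pullback.fst r₂ q₁) := MorphismProperty.pullback_fst _ _ hf₁
  haveI := hs₂
  haveI := hf₂
  refine ⟨Limits.pullback r₂ q₁, Limits.pullback.fst r₂ q₁ ≫ q₂, Limits.pullback.snd r₂ q₁ ≫ r₁, ?_,
    inferInstance, inferInstance, (hq₁.pullback_fst r₂).comp hq₂⟩
  rw [Category.assoc, reassoc_of% hr₁, ← Category.assoc, ← Limits.pullback.condition, Category.assoc, hr₂]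

theorem CovFac.epi {A B : Scheme.{u}} {f : A ⟶ B} (hf : CovFac f) : Epi f := by
  obtain ⟨Z, q, r, hr, _, _, hq⟩ := hf
  haveI := effectiveEpi_of_qcov q hq
  subst hr
  exact epi_of_epi r f

theorem CovFac.exists_desc {A B W : Scheme.{u}} {f : A ⟶ B} (hf : CovFac f) (a : A ⟶ W)
    (ha : ∀ {T : Scheme.{u}} (x y : T ⟶ A), x ≫ f = y ≫ f → x ≫ a = y ≫ a) : ∃ φ : B ⟶ W, f ≫ φ = a := by
  obtain ⟨Z, q, r, hr, _, _, hq⟩ := hf
  haveI := effectiveEpi_of_qcov q hq
  have hφ : ∀ {T : Scheme.{u}} (x y : T ⟶ Z), x ≫ q = y ≫ q → x ≫ r ≫ a = y ≫ r ≫ a := by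
    intro T x y h
    rw [← Category.assoc, ← Category.assoc y]
    exact ha _ _ (by rw [Category.assoc, hr, Category.assoc, hr, h])
  refine ⟨EffectiveEpi.desc q (r ≫ a) fun x y h => hφ x y h, ?_⟩
  haveI : Surjective (Limits.pullback.fst f q) := MorphismProperty.pullback_fst _ _ ‹Surjective q›
  haveI : Flat (Limits.pullback.fst f q) := MorphismProperty.pullback_fst _ _ ‹Flat q›
  haveI := effectiveEpi_of_qcov (Limits.pullback.fst f q) (hq.pullback_fst f)
  rw [← cancel_epi (Limits.pullback.fst f q), ← Category.assoc, Limits.pullback.condition, Category.assoc,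
    EffectiveEpi.fac, ← Category.assoc]
  exact ha _ _ (by rw [Category.assoc, hr, ← Limits.pullback.condition])

variable {S : Scheme.{u}}

theorem epi_of_covFac {A B : Over S} {f : A ⟶ B} (hf : CovFac f.left) : Epi f :=
  haveI := hf.epi
  Over.epi_of_epi_left f

theorem exists_desc_over {A B W : Over S} {f : A ⟶ B} (hf : CovFac f.left) (a : A ⟶ W)
    (ha : ∀ {T : Over S} (x y : T ⟶ A), x ≫ f = y ≫ f → x ≫ a = y ≫ a) : ∃ φ : B ⟶ W, f ≫ φ = a := by
  obtain ⟨φ, hφ⟩ := hf.exists_desc a.left fun {T} x y h => by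
    have hy : y ≫ A.hom = x ≫ A.hom := by
      rw [← Over.w f, ← Category.assoc, ← h, Category.assoc]
    exact congrArg CommaMorphism.left
      (ha (Over.homMk x rfl : Over.mk (x ≫ A.hom) ⟶ A) (Over.homMk y hy) (Over.OverMorphism.ext h))
  refine ⟨Over.homMk φ ?_, Over.OverMorphism.ext hφ⟩
  haveI := hf.epi
  rw [← cancel_epi f.left, ← Category.assoc, hφ, Over.w a, Over.w f]

theorem covFac_whiskerLeft {A B : Over S} {f : A ⟶ B} (hf : CovFac f.left) (X : Over S) :
    CovFac (X ◁ f).left :=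
  hf.of_isPullback ((isPullback_whiskerLeft' X f).map (Over.forget S))

theorem isPullback_whiskerRight' (G : Over S) {A B : Over S} (f : A ⟶ B) :
    IsPullback (f ▷ G) (fst A G) (fst B G) f := by
  refine IsPullback.of_isLimit' ⟨by simp⟩ ?_
  refine Limits.PullbackCone.IsLimit.mk _ (fun s => lift s.snd (s.fst ≫ snd B G)) (fun s => ?_)
    (fun s => lift_fst _ _) (fun s m h1 h2 => ?_)
  · apply CartesianMonoidalCategory.hom_ext
    · simp [s.condition]
    · simp
  · apply CartesianMonoidalCategory.hom_ext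
    · simp [← h2]
    · simp [← h1]

theorem covFac_whiskerRight {A B : Over S} {f : A ⟶ B} (hf : CovFac f.left) (X : Over S) :
    CovFac (f ▷ X).left :=
  hf.of_isPullback ((isPullback_whiskerRight' X f).map (Over.forget S))

theorem covFac_tensorHom {A B A' B' : Over S} {f : A ⟶ B} {g : A' ⟶ B'} (hf : CovFac f.left)
    (hg : CovFac g.left) : CovFac (f ⊗ₘ g).left := by
  rw [MonoidalCategory.tensorHom_def, Over.comp_left]
  exact (covFac_whiskerRight hf _).comp (covFac_whiskerLeft hg _)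

variable {G G' Q : Over S} [GrpObj G] [GrpObj G'] (u : G' ⟶ G) [IsMonHom u] (p : G ⟶ Q)

theorem comp_eq_of_mul (hsq : IsPullback ((G ◁ u) ≫ μ[G]) (fst G G') p p) {T : Over S} (g : T ⟶ G) (h : T ⟶ G') :
    (g * (h ≫ u)) ≫ p = g ≫ p := by
  have e := congrArg (lift g h ≫ ·) hsq.w
  simp only [Category.assoc, lift_whiskerLeft_assoc, lift_fst_assoc] at e
  rwa [← Category.assoc, ← Hom.mul_def] at e

theorem exists_mul_of_comp_eq (hsq : IsPullback ((G ◁ u) ≫ μ[G]) (fst G G') p p) {T : Over S}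
    (g g' : T ⟶ G) (h : g ≫ p = g' ≫ p) : ∃ n : T ⟶ G', g = g' * (n ≫ u) := by
  refine ⟨hsq.lift g g' h ≫ snd G G', ?_⟩
  have e1 := hsq.lift_fst g g' h
  have e2 := hsq.lift_snd g g' h
  rw [Hom.mul_def, ← lift_whiskerLeft g' (hsq.lift g g' h ≫ snd G G') u, Category.assoc]
  conv_lhs => rw [← e1]
  rw [← Category.assoc, ← Category.assoc, show lift g' (hsq.lift g g' h ≫ snd G G') = hsq.lift g g' h by
    apply CartesianMonoidalCategory.hom_ext
    · rw [lift_fst, e2]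
    · rw [lift_snd]]

theorem exists_grpObj (hp : CovFac p.left) (hsq : IsPullback ((G ◁ u) ≫ μ[G]) (fst G G') p p)
    (hN : ∀ (T : Over S) (g : T ⟶ G) (n : T ⟶ G'), ∃ n' : T ⟶ G', g * (n ≫ u) * g⁻¹ = n' ≫ u) :
    ∃ _ : GrpObj Q, IsMonHom p ∧ ∀ m : Q ⊗ Q ⟶ Q, (p ⊗ₘ p) ≫ m = μ[G] ≫ p → m = μ[Q] := by
  obtain ⟨m, hm⟩ := exists_desc_over (covFac_tensorHom hp hp) (μ[G] ≫ p) fun x y h => by
    have h1 : (x ≫ fst G G) ≫ p = (y ≫ fst G G) ≫ p := by
      simpa using congrArg (· ≫ fst Q Q) h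
    have h2 : (x ≫ snd G G) ≫ p = (y ≫ snd G G) ≫ p := by
      simpa using congrArg (· ≫ snd Q Q) h
    obtain ⟨n, hn⟩ := exists_mul_of_comp_eq u p hsq _ _ h1
    obtain ⟨n₂, hn₂⟩ := exists_mul_of_comp_eq u p hsq _ _ h2
    obtain ⟨n', hn'⟩ := hN _ (y ≫ snd G G)⁻¹ n
    have key : ∀ {T : Over S} (z : T ⟶ G ⊗ G), z ≫ μ[G] = (z ≫ fst G G) * (z ≫ snd G G) := fun z => by
      rw [Hom.mul_def, ← comp_lift, lift_fst_snd, Category.comp_id]
    rw [← Category.assoc, ← Category.assoc, key, key, hn, hn₂]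
    rw [inv_inv] at hn'
    rw [show (y ≫ fst G G) * (n ≫ u) * ((y ≫ snd G G) * (n₂ ≫ u))
        = (y ≫ fst G G) * (y ≫ snd G G) * ((y ≫ snd G G)⁻¹ * (n ≫ u) * (y ≫ snd G G)) * (n₂ ≫ u) by group,
      hn', comp_eq_of_mul u p hsq, comp_eq_of_mul u p hsq]
  obtain ⟨i, hi⟩ := exists_desc_over hp (GrpObj.inv ≫ p) fun x y h => by
    obtain ⟨n, hn⟩ := exists_mul_of_comp_eq u p hsq x y h
    obtain ⟨n', hn'⟩ := hN _ y n⁻¹
    rw [← Category.assoc, ← Category.assoc, show x ≫ GrpObj.inv = x⁻¹ from (Hom.inv_def x).symm,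
      show y ≫ GrpObj.inv = y⁻¹ from (Hom.inv_def y).symm, hn,
      show (y * (n ≫ u))⁻¹ = y⁻¹ * (y * ((n ≫ u)⁻¹) * y⁻¹) by group,
      ← GrpObj.inv_comp, hn', comp_eq_of_mul u p hsq]
  haveI := epi_of_covFac hp
  haveI := epi_of_covFac (covFac_tensorHom hp hp)
  haveI := epi_of_covFac (covFac_tensorHom (covFac_tensorHom hp hp) hp)
  haveI := epi_of_covFac (covFac_whiskerLeft hp (𝟙_ (Over S)))
  haveI := epi_of_covFac (covFac_whiskerRight hp (𝟙_ (Over S)))
  let M : MonObj Q :=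
    { one := η[G] ≫ p
      mul := m
      one_mul := by
        rw [← cancel_epi (𝟙_ (Over S) ◁ p), leftUnitor_naturality, ← MonObj.one_mul (X := G), Category.assoc,
          ← hm, ← Category.assoc, ← Category.assoc (η[G] ▷ G)]
        congr 1
        apply CartesianMonoidalCategory.hom_ext <;> simp [toUnit_unique (toUnit _) (fst (𝟙_ (Over S)) G), leftUnitor_hom]
      mul_one := by
        rw [← cancel_epi (p ▷ 𝟙_ (Over S)), rightUnitor_naturality, ← MonObj.mul_one (X := G), Category.assoc,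
          ← hm, ← Category.assoc, ← Category.assoc (G ◁ η[G])]
        congr 1
        apply CartesianMonoidalCategory.hom_ext <;> simp [toUnit_unique (toUnit _) (snd G (𝟙_ (Over S))), rightUnitor_hom]
      mul_assoc := by
        rw [← cancel_epi ((p ⊗ₘ p) ⊗ₘ p)]
        have e1 : ((p ⊗ₘ p) ⊗ₘ p) ≫ m ▷ Q = μ[G] ▷ G ≫ (p ⊗ₘ p) := by
          rw [← tensorHom_id, ← tensorHom_id, tensorHom_comp_tensorHom, tensorHom_comp_tensorHom, hm,
            Category.comp_id, Category.id_comp]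
        have e2 : (p ⊗ₘ (p ⊗ₘ p)) ≫ Q ◁ m = G ◁ μ[G] ≫ (p ⊗ₘ p) := by
          rw [← id_tensorHom, ← id_tensorHom, tensorHom_comp_tensorHom, tensorHom_comp_tensorHom, hm,
            Category.comp_id, Category.id_comp]
        rw [reassoc_of% e1, hm, associator_naturality_assoc, reassoc_of% e2, hm, MonObj.mul_assoc_assoc] }
  letI := M
  letI Gr : GrpObj Q :=
    { M with
      inv := i
      left_inv := by
        rw [← cancel_epi p, ← Category.assoc, comp_lift, hi, Category.comp_id]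
        show lift (GrpObj.inv ≫ p) p ≫ m = p ≫ toUnit Q ≫ η[G] ≫ p
        rw [show lift (GrpObj.inv ≫ p) p = lift (GrpObj.inv (X := G)) (𝟙 G) ≫ (p ⊗ₘ p) by rw [lift_map, Category.id_comp],
          Category.assoc, hm, GrpObj.left_inv_assoc, ← Category.assoc p, toUnit_unique (p ≫ toUnit Q) (toUnit G)]
      right_inv := by
        rw [← cancel_epi p, ← Category.assoc, comp_lift, hi, Category.comp_id]
        show lift p (GrpObj.inv ≫ p) ≫ m = p ≫ toUnit Q ≫ η[G] ≫ p
        rw [show lift p (GrpObj.inv ≫ p) = lift (𝟙 G) (GrpObj.inv (X := G)) ≫ (p ⊗ₘ p) by rw [lift_map, Category.id_comp],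
          Category.assoc, hm, GrpObj.right_inv_assoc, ← Category.assoc p, toUnit_unique (p ≫ toUnit Q) (toUnit G)] }
  refine ⟨Gr, ⟨rfl, hm.symm⟩, fun m' hm' => ?_⟩
  show m' = m
  rw [← cancel_epi (p ⊗ₘ p), hm', hm]

end Groth.Agent.GrpQuot20
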