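import Groth.Agent.Lib.GrpQuot20.Cover
import Mathlib.CategoryTheory.Monoidal.Cartesian.Over
import Mathlib.CategoryTheory.Monoidal.Cartesian.Grp_

/-!
# Quotients by effective equivalence relations over a base scheme
-/

set_option autoImplicit false

universe u

open CategoryTheory CategoryTheory.Limits MonoidalCategory CartesianMonoidalCategory MonObj AlgebraicGeometry

noncomputable section

namespace Groth.Agent.GrpQuot20

variable {S : Scheme.{u}}

theorem isPullback_kernelPair_diag {X Y : Over S} (p : X ⟶ Y) :
    IsPullback (Limits.pullback.fst p p ≫ p) (lift (Limits.pullback.fst p p) (Limits.pullback.snd p p))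
      (lift (𝟙 Y) (𝟙 Y)) (p ⊗ₘ p) := by
  refine IsPullback.of_isLimit' ⟨by
    ext
    · simp
    · simp [Limits.pullback.condition]⟩ ?_
  refine Limits.PullbackCone.IsLimit.mk _
    (fun s => Limits.pullback.lift (s.snd ≫ fst X X) (s.snd ≫ snd X X) (by
      have h1 := congrArg (· ≫ fst Y Y) s.condition
      have h2 := congrArg (· ≫ snd Y Y) s.condition
      simp only [Category.assoc, lift_fst, lift_snd, tensorHom_fst, tensorHom_snd, Category.comp_id] at h1 h2
      rw [Category.assoc, Category.assoc, ← h1, ← h2])) (fun s => ?_) (fun s => ?_) (fun s m h1 h2 => ?_)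
  · have h1 := congrArg (· ≫ fst Y Y) s.condition
    simp only [Category.assoc, lift_fst, tensorHom_fst, Category.comp_id] at h1
    rw [Limits.pullback.lift_fst_assoc, Category.assoc, h1]
  · apply CartesianMonoidalCategory.hom_ext
    · simp only [Category.assoc, lift_fst]; exact Limits.pullback.lift_fst _ _ _
    · simp only [Category.assoc, lift_snd]; exact Limits.pullback.lift_snd _ _ _
  · apply Limits.pullback.hom_ext
    · refine Eq.trans ?_ (Limits.pullback.lift_fst _ _ _).symm
      simp only [← h2, Category.assoc, lift_fst]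
    · refine Eq.trans ?_ (Limits.pullback.lift_snd _ _ _).symm
      simp only [← h2, Category.assoc, lift_snd]

theorem lift_id_left (Y : Over S) : (lift (𝟙 Y) (𝟙 Y)).left = Limits.pullback.diagonal Y.hom := by
  apply Limits.pullback.hom_ext
  · rw [Limits.pullback.diagonal_fst]
    exact congrArg CommaMorphism.left (lift_fst (𝟙 Y) (𝟙 Y))
  · rw [Limits.pullback.diagonal_snd]
    exact congrArg CommaMorphism.left (lift_snd (𝟙 Y) (𝟙 Y))

variable {X Y : Over S} (p : X ⟶ Y)

theorem isImmersion_v :
    IsImmersion (lift (Limits.pullback.fst p p) (Limits.pullback.snd p p)).left := by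
  refine MorphismProperty.of_isPullback (P := @IsImmersion) ((isPullback_kernelPair_diag p).map (Over.forget S)) ?_
  show IsImmersion (lift (𝟙 Y) (𝟙 Y)).left
  rw [lift_id_left]
  infer_instance

theorem isClosedImmersion_v [IsSeparated Y.hom] :
    IsClosedImmersion (lift (Limits.pullback.fst p p) (Limits.pullback.snd p p)).left := by
  refine MorphismProperty.of_isPullback (P := @IsClosedImmersion) ((isPullback_kernelPair_diag p).map (Over.forget S)) ?_
  show IsClosedImmersion (lift (𝟙 Y) (𝟙 Y)).left
  rw [lift_id_left]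
  infer_instance

theorem isSeparated_of_v {Z : Scheme.{u}} (q : Z ⟶ Y.left) (r : Z ⟶ X.left) (hr : r ≫ p.left = q)
    [Flat q] (hq : QCov q)
    (hv : IsClosedImmersion (lift (Limits.pullback.fst p p) (Limits.pullback.snd p p)).left) :
    IsSeparated Y.hom := by
  refine isSeparated_of_cover Y.hom q hq ?_
  have hp : IsPullback (lift (Limits.pullback.fst p p) (Limits.pullback.snd p p)).left
      (Limits.pullback.fst p p ≫ p).left (p ⊗ₘ p).left (Limits.pullback.diagonal Y.hom) := by
    rw [← lift_id_left]
    exact ((isPullback_kernelPair_diag p).map (Over.forget S)).flip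
  have h0 : IsClosedImmersion (Limits.pullback.fst (p ⊗ₘ p).left (Limits.pullback.diagonal Y.hom)) := by
    rw [← hp.isoPullback_inv_fst]
    haveI := hv
    infer_instance
  let n : Limits.pullback (q ≫ Y.hom) (q ≫ Y.hom) ⟶ Limits.pullback X.hom X.hom :=
    Limits.pullback.map _ _ _ _ r r (𝟙 S) (by rw [Category.comp_id, ← hr, Category.assoc, Over.w p])
      (by rw [Category.comp_id, ← hr, Category.assoc, Over.w p])
  let pp : Limits.pullback X.hom X.hom ⟶ Limits.pullback Y.hom Y.hom := (p ⊗ₘ p).left
  have e : n ≫ pp = Limits.pullback.map (q ≫ Y.hom) (q ≫ Y.hom) Y.hom Y.hom q q (𝟙 S) (by simp) (by simp) := by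
    apply Limits.pullback.hom_ext
    · have h1 : pp ≫ Limits.pullback.fst Y.hom Y.hom = Limits.pullback.fst X.hom X.hom ≫ p.left :=
        congrArg CommaMorphism.left (tensorHom_fst p p)
      rw [Category.assoc, h1, ← Category.assoc,
        show n ≫ Limits.pullback.fst X.hom X.hom = _ ≫ r from Limits.pullback.lift_fst _ _ _, Category.assoc, hr]
      exact (Limits.pullback.lift_fst _ _ _).symm
    · have h1 : pp ≫ Limits.pullback.snd Y.hom Y.hom = Limits.pullback.snd X.hom X.hom ≫ p.left :=
        congrArg CommaMorphism.left (tensorHom_snd p p)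
      rw [Category.assoc, h1, ← Category.assoc,
        show n ≫ Limits.pullback.snd X.hom X.hom = _ ≫ r from Limits.pullback.lift_snd _ _ _, Category.assoc, hr]
      exact (Limits.pullback.lift_snd _ _ _).symm
  rw [← e]
  rw [← Category.id_comp (Limits.pullback.fst (n ≫ pp) _), ← (pullbackRightPullbackFstIso pp (Limits.pullback.diagonal Y.hom) n).inv_hom_id,
    Category.assoc, pullbackRightPullbackFstIso_hom_fst]
  haveI : IsClosedImmersion (Limits.pullback.fst pp (Limits.pullback.diagonal Y.hom)) := h0
  infer_instance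

variable {G G' G'' : Over S} [GrpObj G] [GrpObj G'] (u : G' ⟶ G) (p' : G ⟶ G'')

theorem isPullback_unit [IsMonHom u] (hsq : IsPullback ((G ◁ u) ≫ μ[G]) (fst G G') p' p') :
    IsPullback u (toUnit G') p' (η[G] ≫ p') := by
  have h1 : IsPullback (lift (toUnit G' ≫ η[G]) (𝟙 G')) (toUnit G') (fst G G') η[G] := by
    refine IsPullback.of_isLimit' ⟨by simp⟩ ?_
    refine Limits.PullbackCone.IsLimit.mk _ (fun s => s.fst ≫ snd G G') (fun s => ?_) (fun s => toUnit_unique _ _)
      (fun s m h1 _ => ?_)
    · apply CartesianMonoidalCategory.hom_ext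
      · have := s.condition
        simp only [Category.assoc, lift_fst]
        rw [← Category.assoc (snd G G'), ← Category.assoc s.fst,
          toUnit_unique (s.fst ≫ snd G G' ≫ toUnit G') s.snd, this]
      · simp
    · rw [← h1]; simp
  have h2 := h1.paste_horiz hsq
  rwa [show lift (toUnit G' ≫ η[G]) (𝟙 G') ≫ (G ◁ u) ≫ μ[G] = u by
    rw [← Category.assoc, lift_whiskerLeft, Category.id_comp, MonObj.lift_comp_one_left]] at h2

theorem isImmersion_section {Y : Over S} (e : 𝟙_ (Over S) ⟶ Y) : IsImmersion e.left := by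
  have h : e.left ≫ Y.hom = 𝟙 _ := Over.w e
  have : IsImmersion (e.left ≫ Y.hom) := h ▸ inferInstance
  exact IsImmersion.of_comp e.left Y.hom

theorem isClosedImmersion_section {Y : Over S} [IsSeparated Y.hom] (e : 𝟙_ (Over S) ⟶ Y) :
    IsClosedImmersion e.left := by
  have h : e.left ≫ Y.hom = 𝟙 _ := Over.w e
  have : IsClosedImmersion (e.left ≫ Y.hom) := h ▸ inferInstance
  exact IsClosedImmersion.of_comp e.left Y.hom

/-- `(a, b) ↦ (a b, a)` as an automorphism. -/
def shear (G : Over S) [GrpObj G] : G ⊗ G ≅ G ⊗ G where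
  hom := lift μ[G] (fst G G)
  inv := lift (snd G G) ((snd G G)⁻¹ * fst G G)
  hom_inv_id := by
    have hμ : μ[G] = fst G G * snd G G := by rw [Hom.mul_def, lift_fst_snd, Category.id_comp]
    apply CartesianMonoidalCategory.hom_ext
    · simp
    · rw [Category.assoc, lift_snd, MonObj.comp_mul, GrpObj.comp_inv, lift_fst, lift_snd, hμ,
        ← _root_.mul_assoc, inv_mul_cancel, _root_.one_mul, Category.id_comp]
  inv_hom_id := by
    have hμ : μ[G] = fst G G * snd G G := by rw [Hom.mul_def, lift_fst_snd, Category.id_comp]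
    apply CartesianMonoidalCategory.hom_ext
    · rw [Category.assoc, lift_fst, hμ, MonObj.comp_mul, lift_fst, lift_snd, ← _root_.mul_assoc,
        mul_inv_cancel, _root_.one_mul, Category.id_comp]
    · simp

theorem isPullback_whiskerLeft' (G : Over S) {A B : Over S} (f : A ⟶ B) :
    IsPullback (G ◁ f) (snd G A) (snd G B) f := by
  refine IsPullback.of_isLimit' ⟨by simp⟩ ?_
  refine Limits.PullbackCone.IsLimit.mk _ (fun s => lift (s.fst ≫ fst G B) s.snd) (fun s => ?_)
    (fun s => lift_snd _ _) (fun s m h1 h2 => ?_)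
  · apply CartesianMonoidalCategory.hom_ext
    · simp
    · simp [s.condition]
  · apply CartesianMonoidalCategory.hom_ext
    · simp [← h1]
    · simp [← h2]

theorem isClosedImmersion_v_of (hu : IsClosedImmersion u.left)
    (hsq : IsPullback ((G ◁ u) ≫ μ[G]) (fst G G') p' p') :
    IsClosedImmersion (lift (Limits.pullback.fst p' p') (Limits.pullback.snd p' p')).left := by
  have h : hsq.isoPullback.hom ≫ lift (Limits.pullback.fst p' p') (Limits.pullback.snd p' p')
      = (G ◁ u) ≫ (shear G).hom := by
    rw [comp_lift, IsPullback.isoPullback_hom_fst, IsPullback.isoPullback_hom_snd, shear, comp_lift,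
      whiskerLeft_fst]
  have h' : lift (Limits.pullback.fst p' p') (Limits.pullback.snd p' p')
      = hsq.isoPullback.inv ≫ (G ◁ u) ≫ (shear G).hom := by rw [← h, Iso.inv_hom_id_assoc]
  haveI : IsClosedImmersion (G ◁ u).left :=
    MorphismProperty.of_isPullback ((isPullback_whiskerLeft' G u).map (Over.forget S)).flip hu
  haveI : IsIso hsq.isoPullback.inv.left := inferInstanceAs (IsIso ((Over.forget S).map hsq.isoPullback.inv))
  haveI : IsIso (shear G).hom.left := inferInstanceAs (IsIso ((Over.forget S).map (shear G).hom))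
  rw [h', Over.comp_left, Over.comp_left]
  infer_instance

end Groth.Agent.GrpQuot20
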