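import Groth.Agent.Lib.GrpQuot20.OverQuot

/-!
# Properties of the quotient morphism read off from the subgroup
-/

set_option autoImplicit false

universe u

open CategoryTheory CategoryTheory.Limits MonoidalCategory CartesianMonoidalCategory MonObj AlgebraicGeometry

namespace Groth.Agent.GrpQuot20

variable {S : Scheme.{u}} {G G' G'' : Over S} [GrpObj G] (u : G' ⟶ G) (p : G ⟶ G'')

theorem prop_pullback_fst_of_subgroup (P : MorphismProperty Scheme.{u}) [P.IsStableUnderBaseChange]
    (hsq : IsPullback ((G ◁ u) ≫ μ[G]) (fst G G') p p) (hP : P G'.hom)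
    {Z : Scheme.{u}} (r : Z ⟶ G.left) : P (Limits.pullback.fst (r ≫ p.left) p.left) := by
  have hfst : P (fst G G').left := MorphismProperty.pullback_fst (P := P) G.hom G'.hom hP
  have hs : IsPullback ((G ◁ u) ≫ μ[G]).left (fst G G').left p.left p.left := hsq.map (Over.forget S)
  have h0 : P (Limits.pullback.fst p.left p.left) := by
    rw [← MorphismProperty.cancel_left_of_respectsIso (P := P) hs.flip.isoPullback.hom,
      hs.flip.isoPullback_hom_fst]
    exact hfst
  rw [← MorphismProperty.cancel_left_of_respectsIso (P := P) (pullbackRightPullbackFstIso p.left p.left r).hom,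
    pullbackRightPullbackFstIso_hom_fst]
  exact MorphismProperty.pullback_fst (P := P) _ _ h0

theorem prop_subgroup_of_quotient [GrpObj G'] [IsMonHom u] (P : MorphismProperty Scheme.{u}) [P.IsStableUnderBaseChange]
    (hsq : IsPullback ((G ◁ u) ≫ μ[G]) (fst G G') p p) (hP : P p.left) : P G'.hom := by
  have hu := (isPullback_unit u p hsq).map (Over.forget S)
  have h : P (toUnit G').left := MorphismProperty.of_isPullback hu hP
  have e : (toUnit G').left = G'.hom := (Category.comp_id _).symm.trans (Over.w (toUnit G'))
  rwa [e] at h

end Groth.Agent.GrpQuot20
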