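import Groth.Agent.Lib.FpqcDesc.Basic
import Groth.Agent.Lib.H12.SepDesc
import Mathlib.AlgebraicGeometry.Properties
import Mathlib.AlgebraicGeometry.Sites.Fpqc

/-!
# Descent along fpqc covering morphisms (not necessarily quasi-compact)
-/

set_option autoImplicit false

universe u

open CategoryTheory CategoryTheory.Limits AlgebraicGeometry MorphismProperty

namespace Groth.Agent.GrpQuot20

/-- Every affine open of the target is the image of a quasi-compact open of the source. -/
def QCov {B' B : Scheme.{u}} (c : B' ⟶ B) : Prop :=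
  ∀ V : B.Opens, IsAffineOpen V → ∃ W : B'.Opens, IsCompact (W : Set B') ∧ c.base '' (W : Set B') = (V : Set B)

theorem descend_cover (P : MorphismProperty Scheme.{u}) [IsZariskiLocalAtTarget P]
    [P.IsStableUnderBaseChange]
    [P.DescendsAlong (@Surjective ⊓ @Flat ⊓ @QuasiCompact : MorphismProperty Scheme.{u})]
    {A B B' : Scheme.{u}} (g : A ⟶ B) (c : B' ⟶ B) [Flat c] (hc : QCov c)
    (h : P (pullback.fst c g)) : P g := by
  rw [IsZariskiLocalAtTarget.iff_of_iSup_eq_top (P := P) _ (iSup_affineOpens_eq_top B)]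
  rintro ⟨V, hV⟩
  obtain ⟨W, hW, hWV⟩ := hc V hV
  have hle : W ≤ c ⁻¹ᵁ V := fun x hx => by
    show c x ∈ (V : Set B)
    rw [← hWV]
    exact Set.mem_image_of_mem _ hx
  let c' : (W : Scheme.{u}) ⟶ (V : Scheme.{u}) := c.resLE V W hle
  have hc' : (@Surjective ⊓ @Flat ⊓ @QuasiCompact : MorphismProperty Scheme.{u}) c' := by
    refine ⟨⟨⟨fun v => ?_⟩, inferInstance⟩, ?_⟩
    · have hv : V.ι v ∈ c.base '' (W : Set B') := by rw [hWV]; exact v.2
      obtain ⟨w, hw, hwv⟩ := hv
      refine ⟨⟨w, hw⟩, V.ι.injective ?_⟩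
      show ((c' ≫ V.ι) : (W : Scheme.{u}) ⟶ B) ⟨w, hw⟩ = _
      rw [Scheme.Hom.resLE_comp_ι]
      exact hwv
    · haveI : CompactSpace (W : Scheme.{u}) := isCompact_iff_compactSpace.1 hW
      haveI : IsAffine (V : Scheme.{u}) := hV
      exact (quasiCompact_iff_compactSpace c').2 inferInstance
  refine MorphismProperty.of_isPullback_of_descendsAlong (P := P)
    (Q := @Surjective ⊓ @Flat ⊓ @QuasiCompact) (IsPullback.of_hasPullback c' (g ∣_ V)) hc' ?_
  have h1 : IsPullback (pullback.snd c' (g ∣_ V) ≫ (g ⁻¹ᵁ V).ι) (pullback.fst c' (g ∣_ V))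
      g (W.ι ≫ c) := by
    have := (IsPullback.of_hasPullback c' (g ∣_ V)).flip.paste_horiz (isPullback_morphismRestrict g V).flip
    rwa [show c' ≫ V.ι = W.ι ≫ c from Scheme.Hom.resLE_comp_ι c hle] at this
  let l : pullback c' (g ∣_ V) ⟶ pullback c g :=
    pullback.lift (pullback.fst _ _ ≫ W.ι) (pullback.snd _ _ ≫ (g ⁻¹ᵁ V).ι) (by rw [Category.assoc, ← h1.w])
  have h1' : IsPullback (l ≫ pullback.snd c g) (pullback.fst c' (g ∣_ V)) g (W.ι ≫ c) := by
    rw [show l ≫ pullback.snd c g = _ from pullback.lift_snd _ _ _]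
    exact h1
  have h2 : IsPullback l (pullback.fst c' (g ∣_ V)) (pullback.fst c g) W.ι :=
    IsPullback.of_right h1' (pullback.lift_fst _ _ _) (IsPullback.of_hasPullback c g).flip
  exact MorphismProperty.of_isPullback h2 h

theorem QCov.pullback_fst {Z Y : Scheme.{u}} {q : Z ⟶ Y} (hq : QCov q) {T : Scheme.{u}} (t : T ⟶ Y) :
    QCov (pullback.fst t q) := by
  intro V hV
  haveI : QuasiCompactCover.{u, u} (PreZeroHypercover.singleton.{u} q) := by
    refine ⟨fun {U} hU => ?_⟩
    obtain ⟨W, hW, hWU⟩ := hq U hU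
    refine .of_finite (κ := PUnit.{1}) (fun _ => PUnit.unit) (fun _ => W) (fun _ => hW) ?_
    rw [Set.iUnion_const]
    exact hWU
  obtain ⟨n, j, W, hW, hWV⟩ := QuasiCompactCover.exists_isAffineOpen_of_isCompact
    ((PreZeroHypercover.singleton q).pullback₁ t) (U := V) hV.isCompact
  let W' : Fin n → (pullback t q).Opens := fun i => W i
  refine ⟨⨆ i, W' i, ?_, ?_⟩
  · rw [TopologicalSpace.Opens.coe_iSup]
    exact isCompact_iUnion fun i => (hW i).isCompact
  · rw [TopologicalSpace.Opens.coe_iSup, Set.image_iUnion]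
    exact hWV

theorem surjective_of_cover_factor {X Y Z : Scheme.{u}} (p : X ⟶ Y) (r : Z ⟶ X) [Surjective (r ≫ p)] :
    Surjective p :=
  ⟨fun y => ⟨r ((r ≫ p).surjective y).choose, by
    conv_rhs => rw [← ((r ≫ p).surjective y).choose_spec]
    rfl⟩⟩

theorem flat_of_flat_pullback_fst {A B B' : Scheme.{u}} (g : A ⟶ B) (c : B' ⟶ B) [Flat c] [Surjective c]
    (h : Flat (pullback.fst c g)) : Flat g := by
  haveI := h
  haveI : Flat (pullback.snd c g ≫ g) := pullback.condition (f := c) (g := g) ▸ inferInstance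
  exact H12.flat_of_flat_comp_refined (pullback.snd c g) g (pullback.snd c g) (𝟙 _) (Category.id_comp _)

theorem isReduced_of_cover_factor {X Y Z : Scheme.{u}} (p : X ⟶ Y) (r : Z ⟶ X) [Flat (r ≫ p)]
    [Surjective (r ≫ p)] [IsReduced X] : IsReduced Y := by
  refine @isReduced_of_isReduced_stalk _ fun y => ?_
  obtain ⟨z, rfl⟩ := (r ≫ p).surjective y
  have h2 : ((r ≫ p).stalkMap z).hom.Flat := Flat.stalkMap (r ≫ p) z
  have h3 : IsLocalHom ((r ≫ p).stalkMap z).hom := inferInstance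
  rw [Scheme.Hom.stalkMap_comp] at h2 h3
  change ((r.stalkMap z).hom.comp (p.stalkMap (r z)).hom).Flat at h2
  change IsLocalHom ((r.stalkMap z).hom.comp (p.stalkMap (r z)).hom) at h3
  have hinj : Function.Injective ((r.stalkMap z).hom.comp (p.stalkMap (r z)).hom) := by
    algebraize [(r.stalkMap z).hom.comp (p.stalkMap (r z)).hom]
    have : Module.FaithfullyFlat (Y.presheaf.stalk (p (r z))) (Z.presheaf.stalk z) :=
      @Module.FaithfullyFlat.of_flat_of_isLocalHom _ _ _ _ _ _ _ h2 h3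
    exact FaithfulSMul.algebraMap_injective (Y.presheaf.stalk (p (r z))) (Z.presheaf.stalk z)
  rw [RingHom.coe_comp] at hinj
  exact isReduced_of_injective (p.stalkMap (r z)).hom hinj.of_comp

theorem qcov_iso {P A Z' B : Scheme.{u}} {c : P ⟶ A} {s : P ⟶ Z'} {t : A ⟶ B} {q : Z' ⟶ B}
    (hb : IsPullback c s t q) (V : A.Opens) (W : (pullback t q).Opens)
    (hW : IsCompact (W : Set ↥(pullback t q)))
    (hWV : (pullback.fst t q).base '' (W : Set ↥(pullback t q)) = (V : Set A)) :
    ∃ W' : P.Opens, IsCompact (W' : Set P) ∧ c.base '' (W' : Set P) = (V : Set A) := by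
  refine ⟨hb.isoPullback.inv ''ᵁ W, ?_, ?_⟩
  · rw [Scheme.Hom.coe_image]
    exact hW.image hb.isoPullback.inv.continuous
  · rw [Scheme.Hom.coe_image, ← Set.image_comp, ← hWV]
    refine Set.image_congr' fun x => ?_
    show (hb.isoPullback.inv ≫ c) x = _
    rw [hb.isoPullback_inv_fst]

/-- If the base change of the diagonal along `q ×_S q` is a closed immersion, `q` fpqc covering,
then the target is separated. -/
theorem isSeparated_of_cover {Y Z S : Scheme.{u}} (f : Y ⟶ S) (q : Z ⟶ Y) [Flat q] (hq : QCov q)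
    (h : IsClosedImmersion (pullback.fst (pullback.map (q ≫ f) (q ≫ f) f f q q (𝟙 S) (by simp) (by simp))
      (pullback.diagonal f))) : IsSeparated f := by
  haveI := FpqcDesc.descendsAlong_isClosedImmersion.{u}
  constructor
  let c₁ : pullback (q ≫ f) f ⟶ pullback f f :=
    pullback.map _ _ _ _ q (𝟙 Y) (𝟙 S) (by simp) (by simp)
  let c₂ : pullback (q ≫ f) (q ≫ f) ⟶ pullback (q ≫ f) f :=
    pullback.map _ _ _ _ (𝟙 Z) q (𝟙 S) (by simp) (by simp)
  have e₁ : c₁ ≫ pullback.fst f f = pullback.fst (q ≫ f) f ≫ q := pullback.lift_fst _ _ _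
  have e₁' : c₁ ≫ pullback.snd f f = pullback.snd (q ≫ f) f :=
    (pullback.lift_snd _ _ _).trans (Category.comp_id _)
  have e₂ : c₂ ≫ pullback.snd (q ≫ f) f = pullback.snd (q ≫ f) (q ≫ f) ≫ q := pullback.lift_snd _ _ _
  have e₂' : c₂ ≫ pullback.fst (q ≫ f) f = pullback.fst (q ≫ f) (q ≫ f) :=
    (pullback.lift_fst _ _ _).trans (Category.comp_id _)
  have hc : c₂ ≫ c₁ = pullback.map (q ≫ f) (q ≫ f) f f q q (𝟙 S) (by simp) (by simp) := by
    apply pullback.hom_ext
    · rw [Category.assoc, e₁, ← Category.assoc, e₂']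
      exact (pullback.lift_fst _ _ _).symm
    · rw [Category.assoc, e₁', e₂]
      exact (pullback.lift_snd _ _ _).symm
  have hb₁ : IsPullback c₁ (pullback.fst (q ≫ f) f) (pullback.fst f f) q := by
    refine IsPullback.of_right ?_ e₁ (IsPullback.of_hasPullback f f).flip
    rw [e₁']
    exact (IsPullback.of_hasPullback (q ≫ f) f).flip
  have hb₂ : IsPullback c₂ (pullback.snd (q ≫ f) (q ≫ f)) (pullback.snd (q ≫ f) f) q := by
    refine IsPullback.of_right ?_ e₂ (IsPullback.of_hasPullback (q ≫ f) f)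
    rw [e₂']
    exact IsPullback.of_hasPullback (q ≫ f) (q ≫ f)
  haveI : Flat c₁ := MorphismProperty.of_isPullback hb₁.flip ‹Flat q›
  haveI : Flat c₂ := MorphismProperty.of_isPullback hb₂.flip ‹Flat q›
  have hq₁ : QCov c₁ := by
    intro V hV
    obtain ⟨W, hW, hWV⟩ := hq.pullback_fst (pullback.fst f f) V hV
    exact qcov_iso hb₁ V W hW hWV
  have hq₂ : QCov c₂ := by
    intro V hV
    obtain ⟨W, hW, hWV⟩ := hq.pullback_fst (pullback.snd (q ≫ f) f) V hV
    exact qcov_iso hb₂ V W hW hWV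
  refine descend_cover @IsClosedImmersion (pullback.diagonal f) c₁ hq₁ ?_
  refine descend_cover @IsClosedImmersion _ c₂ hq₂ ?_
  rw [← hc] at h
  rw [← pullbackRightPullbackFstIso_hom_fst c₁ (pullback.diagonal f) c₂]
  haveI := h
  infer_instance

end Groth.Agent.GrpQuot20
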