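import Groth.Agent.Lib.GrpQuot20.OverQuot

/-!
# The diagonal of a group scheme is a base change of the unit section
-/

set_option autoImplicit false

universe u

open CategoryTheory CategoryTheory.Limits MonoidalCategory CartesianMonoidalCategory MonObj GrpObj AlgebraicGeometry

namespace Groth.Agent.GrpQuot20

variable {S : Scheme.{u}} (G : Over S) [GrpObj G]

theorem isPullback_diag_unit :
    IsPullback (toUnit G) (lift (𝟙 G) (𝟙 G)) η[G] (fst G G / snd G G) := by
  refine IsPullback.of_isLimit' ⟨by rw [GrpObj.comp_div, lift_fst, lift_snd, div_self', Hom.one_def]⟩ ?_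
  refine Limits.PullbackCone.IsLimit.mk _ (fun s => s.snd ≫ fst G G) (fun s => toUnit_unique _ _) (fun s => ?_)
    (fun s m _ h2 => ?_)
  · have h := s.condition
    rw [GrpObj.comp_div, toUnit_unique s.fst (toUnit _), ← Hom.one_def] at h
    apply CartesianMonoidalCategory.hom_ext
    · simp
    · rw [Category.assoc, lift_snd, Category.comp_id]
      exact div_eq_one.1 h.symm
  · rw [← h2]; simp

theorem prop_diagonal_of_unit (P : MorphismProperty Scheme.{u}) [P.IsStableUnderBaseChange] (h : P η[G].left) :
    P (Limits.pullback.diagonal G.hom) := by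
  have := MorphismProperty.of_isPullback (P := P) ((isPullback_diag_unit G).map (Over.forget S)) h
  rwa [show (Over.forget S).map (lift (𝟙 G) (𝟙 G)) = Limits.pullback.diagonal G.hom from lift_id_left G] at this

theorem formallyUnramified_of_unit (h : IsOpenImmersion η[G].left) : FormallyUnramified G.hom := by
  haveI : IsOpenImmersion (Limits.pullback.diagonal G.hom) := prop_diagonal_of_unit G @IsOpenImmersion h
  infer_instance

end Groth.Agent.GrpQuot20
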